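import Mathlib.RingTheory.Smooth.StandardSmoothCotangent
import Mathlib.RingTheory.FiniteType
import Mathlib.RingTheory.LocalRing.ResidueField.Ideal
import Mathlib.LinearAlgebra.Matrix.Rank

/-!
# Algebras which embed locally into standard smooth algebras of given relative dimension
-/

set_option autoImplicit false

universe u

open TensorProduct

namespace Groth.Agent.SmoothEmbed28

variable {B A : Type u} [CommRing B] [CommRing A] [Algebra B A]

/-- A quotient of a standard smooth algebra of relative dimension `p` has differentials of fibre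
dimension at most `p`. -/
theorem finrank_le_of_surjective {T : Type u} [CommRing T] [Algebra B T] (p : ℕ)
    [Algebra.IsStandardSmoothOfRelativeDimension p B T] (ψ : T →ₐ[B] A) (hψ : Function.Surjective ψ)
    (q : Ideal A) [q.IsPrime] :
    Module.finrank q.ResidueField (q.ResidueField ⊗[A] Ω[A⁄B]) ≤ p := by
  let _ := ψ.toRingHom.toAlgebra
  have : IsScalarTower B T A := .of_algebraMap_eq fun b => (ψ.commutes b).symm
  have : Nontrivial A := ⟨⟨0, 1, fun h => ‹q.IsPrime›.ne_top ((Ideal.eq_top_iff_one q).2 (h ▸ q.zero_mem))⟩⟩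
  have : Nontrivial T := ψ.toRingHom.domain_nontrivial
  have : Algebra.IsStandardSmooth B T :=
    Algebra.IsStandardSmoothOfRelativeDimension.isStandardSmooth p
  let bas := Module.Free.chooseBasis T Ω[T⁄B]
  have hcard : Cardinal.mk (Module.Free.ChooseBasisIndex T Ω[T⁄B]) = p := by
    rw [← Module.Free.rank_eq_card_chooseBasisIndex]
    exact Algebra.IsStandardSmoothOfRelativeDimension.rank_kaehlerDifferential p
  have : Finite (Module.Free.ChooseBasisIndex T Ω[T⁄B]) :=
    Cardinal.lt_aleph0_iff_finite.1 (hcard ▸ Cardinal.natCast_lt_aleph0)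
  have : Fintype (Module.Free.ChooseBasisIndex T Ω[T⁄B]) := Fintype.ofFinite _
  let v : Module.Free.ChooseBasisIndex T Ω[T⁄B] → q.ResidueField ⊗[A] Ω[A⁄B] := fun i =>
    1 ⊗ₜ KaehlerDifferential.map B B T A (bas i)
  have hv : Submodule.span q.ResidueField (Set.range v) = ⊤ := by
    rw [eq_top_iff]
    rintro z -
    induction z using TensorProduct.induction_on with
    | zero => exact Submodule.zero_mem _
    | add x y hx hy => exact Submodule.add_mem _ hx hy
    | tmul c w =>
      obtain ⟨w', rfl⟩ := KaehlerDifferential.map_surjective_of_surjective B B T A hψ w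
      rw [← bas.sum_repr w', map_sum, tmul_sum]
      refine Submodule.sum_mem _ fun i _ => ?_
      rw [map_smul, ← IsScalarTower.algebraMap_smul A (bas.repr w' i), tmul_smul,
        ← IsScalarTower.algebraMap_smul q.ResidueField (algebraMap T A (bas.repr w' i))]
      refine Submodule.smul_mem _ _ ?_
      rw [← mul_one c, ← smul_eq_mul, ← TensorProduct.smul_tmul']
      exact Submodule.smul_mem _ _ (Submodule.subset_span ⟨i, rfl⟩)
  have hc : Fintype.card (Module.Free.ChooseBasisIndex T Ω[T⁄B]) = p := by
    have := hcard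
    rw [Cardinal.mk_fintype] at this
    exact_mod_cast this
  have h := finrank_range_le_card (R := q.ResidueField) v
  rwa [Set.finrank, hv, finrank_top, hc] at h

/-- Column selection. -/
theorem exists_minor_ne_zero {κ : Type u} [Field κ] {n c : ℕ} (v : Fin c → Fin n → κ)
    (hv : LinearIndependent κ v) :
    ∃ a : Fin c → Fin n, Function.Injective a ∧ (Matrix.of fun i j => v j (a i)).det ≠ 0 := by
  classical
  let M : Matrix (Fin c) (Fin n) κ := Matrix.of v
  have hrk : Module.finrank κ (Submodule.span κ (Set.range M.col)) = c := by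
    rw [← Matrix.rank_eq_finrank_span_cols, LinearIndependent.rank_matrix (M := M) hv, Fintype.card_fin]
  obtain ⟨ι, a, ha, hsp, hli⟩ := exists_linearIndependent' κ M.col
  have : Finite ι := Finite.of_injective a ha
  have : Fintype ι := Fintype.ofFinite ι
  have hcard : Fintype.card ι = c := by
    rw [← finrank_span_eq_card hli, hsp, hrk]
  let e : Fin c ≃ ι := (Fintype.equivFinOfCardEq hcard).symm
  refine ⟨a ∘ e, ha.comp e.injective, fun h0 => ?_⟩
  have hli' : LinearIndependent κ (Matrix.of fun i j => v j (a (e i))).row := hli.comp e e.injective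
  exact ((Matrix.isUnit_iff_isUnit_det _).1 (Matrix.linearIndependent_rows_iff_isUnit.1 hli')).ne_zero h0

section

variable {n : ℕ} (π : MvPolynomial (Fin n) B →ₐ[B] A) (q : Ideal A) [q.IsPrime]

/-- Partial derivatives at a point. -/
noncomputable def grad (g : MvPolynomial (Fin n) B) : Fin n → q.ResidueField :=
  fun i => algebraMap A q.ResidueField (π (MvPolynomial.pderiv i g))

theorem grad_add (g h : MvPolynomial (Fin n) B) : grad π q (g + h) = grad π q g + grad π q h :=
  funext fun i => by simp [grad]

theorem grad_mul (g h : MvPolynomial (Fin n) B) :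
    grad π q (g * h) = π g • grad π q h + π h • grad π q g := funext fun i => by
  simp [grad, Algebra.smul_def]

theorem grad_C (b : B) : grad π q (MvPolynomial.C b) = 0 := funext fun i => by simp [grad]

theorem grad_X (i : Fin n) : grad π q (MvPolynomial.X i) = Pi.single i 1 := funext fun j => by
  rcases eq_or_ne i j with rfl | h
  · simp [grad]
  · simp [grad, Pi.single_eq_of_ne h.symm, MvPolynomial.pderiv_X_of_ne h]

variable {π}

/-- Enough independent equations. -/
theorem exists_independent (hπ : Function.Surjective π) (p : ℕ)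
    (hfin : Module.finrank q.ResidueField (q.ResidueField ⊗[A] Ω[A⁄B]) ≤ p) :
    ∃ g : Fin (n - p) → MvPolynomial (Fin n) B, (∀ j, π (g j) = 0) ∧
      LinearIndependent q.ResidueField fun j => grad π q (g j) := by
  classical
  let W : Submodule q.ResidueField (Fin n → q.ResidueField) :=
    Submodule.span _ (grad π q '' {g | π g = 0})
  have : Algebra.FiniteType B A := Algebra.FiniteType.iff_quotient_mvPolynomial''.2 ⟨n, π, hπ⟩
  let s := Function.surjInv hπ
  have hs : ∀ a, π (s a) = a := Function.surjInv_eq hπ
  let Dfun : A → (Fin n → q.ResidueField) ⧸ W := fun a => Submodule.Quotient.mk (grad π q (s a))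
  have hD : ∀ (g : MvPolynomial (Fin n) B), Dfun (π g) = Submodule.Quotient.mk (grad π q g) := fun g => by
    refine (Submodule.Quotient.eq W).2 ?_
    have hg0 : π (s (π g) - g) = 0 := by rw [map_sub, hs, sub_self]
    have := grad_add π q (s (π g) - g) g
    rw [sub_add_cancel] at this
    rw [this, add_sub_cancel_right]
    exact Submodule.subset_span ⟨_, hg0, rfl⟩
  let D : Derivation B A ((Fin n → q.ResidueField) ⧸ W) :=
    Derivation.mk'
      { toFun := Dfun
        map_add' := fun a b => by
          show Dfun (a + b) = Dfun a + Dfun b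
          conv_lhs => rw [← hs a, ← hs b, ← map_add, hD, grad_add, Submodule.Quotient.mk_add]
        map_smul' := fun r a => by
          show Dfun (r • a) = r • Dfun a
          conv_lhs => rw [← hs a, ← map_smul, hD, MvPolynomial.smul_eq_C_mul, grad_mul, grad_C, smul_zero,
            add_zero, MvPolynomial.C_eq_algebraMap, π.commutes, IsScalarTower.algebraMap_smul]
          rfl }
      fun a b => by
        show Dfun (a * b) = a • Dfun b + b • Dfun a
        conv_lhs => rw [← hs a, ← hs b, ← map_mul, hD, grad_mul, hs, hs, Submodule.Quotient.mk_add]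
        rfl
  let Φ : q.ResidueField ⊗[A] Ω[A⁄B] →ₗ[q.ResidueField] (Fin n → q.ResidueField) ⧸ W :=
    D.liftKaehlerDifferential.liftBaseChange q.ResidueField
  have hΦ : Function.Surjective Φ := by
    rw [← LinearMap.range_eq_top, eq_top_iff]
    intro z _
    obtain ⟨z, rfl⟩ := Submodule.Quotient.mk_surjective W z
    rw [show z = ∑ i, z i • (Pi.single i (1 : q.ResidueField) : Fin n → q.ResidueField) from
      (pi_eq_sum_univ' z), ← W.mkQ_apply, map_sum]
    refine Submodule.sum_mem _ fun i _ => ?_
    rw [map_smul, W.mkQ_apply]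
    refine Submodule.smul_mem _ _ ⟨1 ⊗ₜ KaehlerDifferential.D B A (π (MvPolynomial.X i)), ?_⟩
    simp only [Φ, LinearMap.liftBaseChange_tmul, one_smul, Derivation.liftKaehlerDifferential_comp_D]
    show Dfun _ = _
    rw [hD, grad_X]
  have : Module.Finite A Ω[A⁄B] := inferInstance
  have hle : Module.finrank q.ResidueField ((Fin n → q.ResidueField) ⧸ W) ≤ p :=
    (LinearMap.finrank_le_finrank_of_surjective hΦ).trans hfin
  have hW : n - p ≤ Module.finrank q.ResidueField W := by
    have := W.finrank_quotient_add_finrank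
    rw [Module.finrank_fin_fun] at this
    omega
  obtain ⟨b, hb, hsp, hli⟩ := exists_linearIndependent q.ResidueField (grad π q '' {g | π g = 0})
  have : Finite b := hli.finite
  have : Fintype b := Fintype.ofFinite b
  have hcard : n - p ≤ Fintype.card b := by
    refine hW.trans (le_of_eq ?_)
    rw [← finrank_span_eq_card hli, Subtype.range_coe, hsp]
  let e : Fin (n - p) ↪ b := (Fin.castLEEmb hcard).trans (Fintype.equivFin b).symm.toEmbedding
  choose g hg hgv using fun x : b => hb x.2
  refine ⟨fun j => g (e j), fun j => hg _, ?_⟩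
  have h := hli.comp e e.injective
  exact (funext fun j => hgv (e j) : (fun j => grad π q (g (e j))) = (Subtype.val ∘ e)) ▸ h

end

/-- The embedding. -/
theorem exists_standardSmooth_surjection [Algebra.FiniteType B A] (q : Ideal A) [q.IsPrime] (p : ℕ)
    (hfin : Module.finrank q.ResidueField (q.ResidueField ⊗[A] Ω[A⁄B]) ≤ p) :
    ∃ f : A, f ∉ q ∧ ∀ (Af : Type u) [CommRing Af] [Algebra B Af] [Algebra A Af] [IsScalarTower B A Af]
      [IsLocalization.Away f Af],
      ∃ (T : Type u) (_ : CommRing T) (_ : Algebra B T),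
        Algebra.IsStandardSmoothOfRelativeDimension p B T ∧
          ∃ ψ : T →ₐ[B] Af, Function.Surjective ψ := by
  classical
  obtain ⟨n₀, π₀, hπ₀⟩ := Algebra.FiniteType.iff_quotient_mvPolynomial''.1 ‹Algebra.FiniteType B A›
  -- padding
  let π : MvPolynomial (Fin (n₀ + p)) B →ₐ[B] A :=
    MvPolynomial.aeval (Fin.append (fun i => π₀ (MvPolynomial.X i)) (fun _ => 0))
  have hπ : Function.Surjective π := fun a => by
    obtain ⟨x, rfl⟩ := hπ₀ a
    refine ⟨MvPolynomial.rename (Fin.castAdd p) x, ?_⟩
    have h : π.comp (MvPolynomial.rename (Fin.castAdd p)) = π₀ :=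
      MvPolynomial.algHom_ext fun i => by simp [π]
    exact DFunLike.congr_fun h x
  obtain ⟨g, hg, hli⟩ := exists_independent q hπ p hfin
  obtain ⟨a, ha, hdet⟩ := exists_minor_ne_zero _ hli
  let P0 : Algebra.PreSubmersivePresentation B (MvPolynomial (Fin (n₀ + p)) B ⧸ Ideal.span (Set.range g))
      (Fin (n₀ + p)) (Fin (n₀ + p - p)) := Algebra.PreSubmersivePresentation.naive a ha
  let d : MvPolynomial (Fin (n₀ + p)) B := P0.jacobiMatrix.det
  have hd : algebraMap A q.ResidueField (π d) =
      (Matrix.of fun i j => grad π q (g j) (a i)).det := by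
    rw [show algebraMap A q.ResidueField (π d) = ((algebraMap A q.ResidueField).comp π.toRingHom) d from rfl,
      RingHom.map_det]
    congr 1
    ext i j
    simp [P0, grad]
  have hker : ∀ x ∈ Ideal.span (Set.range g), π x = 0 := fun x hx =>
    (show Ideal.span (Set.range g) ≤ RingHom.ker π from
      Ideal.span_le.2 (by rintro _ ⟨j, rfl⟩; exact hg j)) hx
  refine ⟨π d, fun hmem => hdet (hd.symm.trans (Ideal.algebraMap_residueField_eq_zero.2 hmem)), ?_⟩
  intro Af _ _ _ _ _
  let Q := MvPolynomial (Fin (n₀ + p)) B ⧸ Ideal.span (Set.range g)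
  let h0 : Q := Ideal.Quotient.mk _ d
  let T := Localization.Away h0
  let PL := Algebra.SubmersivePresentation.localizationAway (R := Q) T h0
  have hj0 : P0.jacobian = h0 := by
    rw [P0.jacobian_eq_jacobiMatrix_det]
    rfl
  let Pc : Algebra.SubmersivePresentation B T (Unit ⊕ Fin (n₀ + p)) (Unit ⊕ Fin (n₀ + p - p)) :=
    { __ := PL.toPreSubmersivePresentation.comp P0
      jacobian_isUnit := by
        rw [Algebra.PreSubmersivePresentation.comp_jacobian_eq_jacobian_smul_jacobian, Algebra.smul_def,
          hj0]
        exact (IsLocalization.map_units T (⟨h0, 1, by simp⟩ : Submonoid.powers h0)).mul PL.jacobian_isUnit }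
  refine ⟨T, inferInstance, inferInstance, Pc.isStandardSmoothOfRelativeDimension ?_, ?_⟩
  · simp [Algebra.Presentation.dimension]
    omega
  let ψ0 : Q →ₐ[B] A := Ideal.Quotient.liftₐ _ π hker
  have hunit : IsUnit ((algebraMap A Af).comp ψ0.toRingHom h0) := by
    show IsUnit (algebraMap A Af (π d))
    exact IsLocalization.map_units Af (⟨π d, 1, by simp⟩ : Submonoid.powers (π d))
  let ψ : T →ₐ[B] Af :=
    { toRingHom := IsLocalization.Away.lift h0 hunit
      commutes' := fun b => by
        show IsLocalization.Away.lift h0 hunit (algebraMap B T b) = _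
        rw [IsScalarTower.algebraMap_apply B Q T, IsLocalization.Away.lift_eq, RingHom.comp_apply,
          IsScalarTower.algebraMap_apply B A Af]
        exact congrArg _ (ψ0.commutes b) }
  refine ⟨ψ, fun z => ?_⟩
  obtain ⟨k, x, hx⟩ := IsLocalization.Away.surj (π d) z
  obtain ⟨y, rfl⟩ := hπ x
  refine ⟨IsLocalization.mk' T (Ideal.Quotient.mk _ y : Q) (⟨h0 ^ k, k, rfl⟩ : Submonoid.powers h0), ?_⟩
  show IsLocalization.Away.lift h0 hunit _ = z
  refine (IsLocalization.lift_mk'_spec _ _ _ _).2 ?_
  show algebraMap A Af (π y) = algebraMap A Af (ψ0 (h0 ^ k)) * z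
  rw [map_pow, show ψ0 h0 = π d from rfl, map_pow, ← hx, mul_comm]

end Groth.Agent.SmoothEmbed28
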